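import Groth.Agent.L09.GerbStrat.GenericFlat
import Groth.Agent.L09.Gerbe.InertiaAbs
import Groth.Agent.L24.InertiaGen.Main
import Groth.Agent.L24.St.DiagLft
import Groth.Agent.L24.St.InertiaSep
import Groth.Agent.L24.St.UnivProps
import Groth.Agent.L24.St.QcSep
import Groth.Agent.S16861

/-!
A dense open substack of a reduced stack with quasi-compact inertia is a gerbe.
-/

set_option autoImplicit false
set_option backward.isDefEq.respectTransparency false
set_option backward.isDefEq.respectTransparency.types false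

universe u

open CategoryTheory CategoryTheory.Limits AlgebraicGeometry Opposite AlgSt

noncomputable section

namespace Groth.L09.GerbStrat

open Groth.L24.St

variable {S : Scheme.{u}} {𝒳 𝒴 : AlgSt.Cat S}

theorem pBase_flatLfp : PBase (FlatLfp : MorphismProperty (AlgSp.Sp S)) :=
  fun _ _ _ _ h1 h2 h3 h4 a b a' b' sq h =>
    ⟨pBase_locP Groth.L23.etLocal_flat h1 h2 h3 h4 a b a' b' sq h.1,
      pBase_locP Groth.L23.etLocal_lfp h1 h2 h3 h4 a b a' b' sq h.2⟩

/-- Witnesses descend along smooth surjective maps of the base. -/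
theorem wit_descend {f : 𝒳 ⥤ᵇ 𝒴} (hf : RepByAlgSp1 f) {T W : Over S} (y : FibCat.overCat T ⥤ᵇ 𝒴)
    (ψ : W ⟶ T) [Smooth ψ.left] (hs : Function.Surjective ψ.left)
    (h : Wit FlatLfp (BasedFunctor.comp (overMap ψ) y) f) : Wit FlatLfp y f := by
  obtain ⟨F, e, he⟩ := hf T y
  refine ⟨F, e, he, ?_⟩
  let q := spMapOfOver (BasedFunctor.comp e (FibCat.fpFst y f))
  obtain ⟨hPs, Θ, hΘ, ⟨iΘ⟩, -⟩ := Groth.L24.LocQ.exists_space_square' y e he (AlgSp.IsAlgSpace.yon_obj W)
    (IsPullback.of_hasPullback q ((AlgSp.yon S).map ψ))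
  let c := BasedFunctor.comp (ofSpMap ((AlgSp.yon S).map ψ)) (toOverCat T)
  let M := fpMap (F := BasedFunctor.comp (overMap ψ) y) (G := f)
    (F' := BasedFunctor.comp c y) (G' := f) (toOverCat W) (BasedFunctor.id _)
    (whiskerR (Groth.L24.LocQ.yonToOverIso ψ).symm y) (Iso.refl _)
  have hM : FibCat.IsEquivOver M := fpMap_isEquivOver (toOverCat_isEquivOver _) (isEquivOver_id _) _ _
  have h1 := Wit.prop_of_equiv (fun F F' hF hF' i hi a ha =>
    pBase_flatLfp.iso_left hF hF' (AlgSp.IsAlgSpace.yon_obj W) i ha) h hPs (BasedFunctor.comp Θ M)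
    (isEquivOver_comp hΘ hM)
  have h2 : spMapOfOver (BasedFunctor.comp (BasedFunctor.comp Θ M)
      (FibCat.fpFst (BasedFunctor.comp (overMap ψ) y) f)) = pullback.snd q ((AlgSp.yon S).map ψ) := by
    rw [show BasedFunctor.comp (BasedFunctor.comp Θ M) (FibCat.fpFst _ f) =
      BasedFunctor.comp (BasedFunctor.comp Θ (FibCat.fpFst (BasedFunctor.comp c y) f)) (toOverCat W) from rfl,
      spMapOfOver_congr (whiskerR iΘ (toOverCat W)), spMapOfOver_ofSpMap_comp, spMapOfOver_toOverCat,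
      Category.comp_id]
  rw [h2] at h1
  have hcov : AlgSp.IsFppfCover (fun _ : PUnit.{u + 1} => (AlgSp.yon S).obj W) (fun _ => (AlgSp.yon S).map ψ) := by
    refine ⟨fun _ => ⟨(Groth.L24.LocQ.locP_map_iff Groth.L23.etLocal_flat _).2 inferInstance,
      (Groth.L24.LocQ.locP_map_iff Groth.L23.etLocal_lfp _).2 inferInstance⟩, fun x => ?_⟩
    obtain ⟨t, rfl⟩ := (AlgSp.Points.schemeEquiv T).surjective x
    obtain ⟨w, hw⟩ := hs t
    refine ⟨PUnit.unit, AlgSp.Points.schemeHomeo W w, ?_⟩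
    rw [AlgSp.Points.map_yon_map_apply, hw]
    rfl
  have hcov' := Groth.L23.isFpqcCover_of_isFppfCover (AlgSp.IsAlgSpace.yon_obj T)
    (fun _ => AlgSp.IsAlgSpace.yon_obj W) hcov
  exact ⟨(Groth.L23.isLocalOnBase_fpqc_locP Groth.L23.etLocal_flat _ _ (AlgSp.IsAlgSpace.yon_obj T)
      (fun _ => AlgSp.IsAlgSpace.yon_obj W) hcov' q F.property (fun _ => pullback q ((AlgSp.yon S).map ψ))
      (fun _ => pullback.snd _ _) (fun _ => pullback.fst _ _) (fun _ => hPs)
      (fun _ => IsPullback.of_hasPullback _ _)).2 fun _ => h1.1,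
    (Groth.L23.isLocalOnBase_fpqc_locP Groth.L23.etLocal_lfp _ _ (AlgSp.IsAlgSpace.yon_obj T)
      (fun _ => AlgSp.IsAlgSpace.yon_obj W) hcov' q F.property (fun _ => pullback q ((AlgSp.yon S).map ψ))
      (fun _ => pullback.snd _ _) (fun _ => pullback.fst _ _) (fun _ => hPs)
      (fun _ => IsPullback.of_hasPullback _ _)).2 fun _ => h1.2⟩

/-- A witness over a smooth chart spreads to every object within the image of the chart. -/
theorem wit_of_range {f : 𝒳 ⥤ᵇ 𝒴} (hg : FibCat.IsFibGrpd 𝒴.p) (hf : RepByAlgSp1 f) {V : Over S}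
    (xV : FibCat.overCat V ⥤ᵇ 𝒴) (hxV : RepByAlgSpWith (AlgSp.LocP @Smooth) xV) (hV : Wit FlatLfp xV f)
    {T : Over S} (y : FibCat.overCat T ⥤ᵇ 𝒴)
    (hy : ∀ t, Points.ofChart y t ∈ Set.range (Points.ofChart xV)) : Wit FlatLfp y f := by
  obtain ⟨W, ψ, ρ, hψ, ⟨i⟩, hcov⟩ := exists_chart_square hg (x := y) hxV
  have : Smooth ψ.left := hψ
  refine wit_descend hf y ψ (fun t => ?_) ((wit_congr i (Iso.refl _)).2 ?_)
  · obtain ⟨v, hv⟩ := hy t
    obtain ⟨w, hw, -⟩ := hcov t v hv.symm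
    exact ⟨w, hw⟩
  obtain ⟨F, e, he, hP⟩ := hV
  have hW := AlgSp.IsAlgSpace.yon_obj W
  exact Groth.L24.InertiaGen.wit_restrict he ρ (IsPullback.of_hasPullback _ _)
    (pBase_flatLfp F.property (AlgSp.IsAlgSpace.yon_obj V)
      (isAlgSpace_pullback F.property hW (AlgSp.IsAlgSpace.yon_obj V) _ _) hW _ _ _ _
      (IsPullback.of_hasPullback _ _) hP)

theorem repWith_inertia_lft_qc (h𝒳 : IsAlgStack Scheme.fppfPrecoverage 𝒳)
    (hI : IsQuasiCompactMor Scheme.fppfPrecoverage (FibCat.inertiaToBase (FibCat.toSelf 𝒳))) :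
    RepByAlgSpWith (AlgSp.LocP @LocallyOfFiniteType ⊓ AlgSp.IsQuasiCompactMor)
      (FibCat.inertiaToBase (FibCat.toSelf 𝒳)) :=
  repWith_inf pBase_qcMor (inertiaToBase_repWith h𝒳 isAlgStack_selfOver (diag_toSelf_lft h𝒳))
    ((repWith_qcMor_iff (Groth.L09.Gerbe.isAlgStack_inertia h𝒳 isAlgStack_selfOver _).isStack.1 h𝒳.isStack.1
      (inertiaToBase_rep1_alg h𝒳 isAlgStack_selfOver _)).2 hI)

/-- The open set of points over which the inertia is flat and of finite presentation can be taken dense. -/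
theorem exists_dense_isAlgGerbe (h𝒳 : IsAlgStack Scheme.fppfPrecoverage 𝒳)
    (hred : SmoothLocally (fun T => IsReduced T) 𝒳)
    (hI : IsQuasiCompactMor Scheme.fppfPrecoverage (FibCat.inertiaToBase (FibCat.toSelf 𝒳))) :
    ∃ T : Set (Points 𝒳), IsOpen T ∧ Dense T ∧ ∀ T' : Set (Points 𝒳), IsOpen T' → T' ⊆ T →
      Gerb.IsAlgGerbe Scheme.fppfPrecoverage (fullSub 𝒳 (Groth.L24.Sub.Within T')) := by
  have hg := h𝒳.isStack.1
  obtain ⟨V, y, hy, hys⟩ := h𝒳.atlas
  have : IsReduced V.left := hred V y hy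
  have hrep := repWith_inertia_lft_qc h𝒳 hI
  obtain ⟨F, e, he, hl, hc⟩ := hrep V y
  obtain ⟨O, hOd, hO⟩ := exists_dense_flatLfp _ hl hc
  let xV := BasedFunctor.comp (overMap (opHom V O)) y
  have hxV : RepByAlgSpWith (AlgSp.LocP @Smooth) xV :=
    repWith_comp hasAtlasCovers_atlasCov (pBase_locP Groth.L23.etLocal_smooth)
      (pComp_locP Groth.L23.etLocal_smooth) (isLocalOnBase_locP Groth.L23.etLocal_smooth) (overCat_isFibGrpd _)
      (overCat_isFibGrpd _) (repWith_mono (fun _ _ _ _ h => Groth.L23.locP_of_repWith Groth.L23.etLocal_smooth h)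
        (repWith_overMap (R := @Smooth) (inferInstanceAs (Smooth O.ι)))) hy
  have hV : Wit FlatLfp xV (FibCat.inertiaToBase (FibCat.toSelf 𝒳)) :=
    Groth.L24.InertiaGen.wit_restrict he (opHom V O) (IsPullback.of_hasPullback _ _) hO
  have hop : IsOpenMap (Points.ofChart y) :=
    isOpenMap_ofChart (fun g (_ : Smooth g) => g.isOpenMap) hg hy
  let T : Set (Points 𝒳) := Points.ofChart y '' (O : Set V.left)
  have hTo : IsOpen T := hop _ O.2
  have hrange : Set.range (Points.ofChart xV) = T := by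
    ext p
    constructor
    · rintro ⟨t, rfl⟩
      exact ⟨t.1, t.2, (ofChart_overMap_comp (opHom V O) y t).symm⟩
    · rintro ⟨v, hv, rfl⟩
      exact ⟨⟨v, hv⟩, ofChart_overMap_comp (opHom V O) y ⟨v, hv⟩⟩
  refine ⟨T, hTo, (surjective_ofChart_of_repWith hg hys).denseRange.dense_image (continuous_ofChart h𝒳 y) hOd, ?_⟩
  intro T' hT' hsub
  let Q := Groth.L24.Sub.Within T'
  let j := subIncl 𝒳 Q
  have hQ := (Groth.L24.Sub.isOpenSubstack_within h𝒳 hT').2.1
  have : j.toFunctor.Faithful := inferInstanceAs (ObjectProperty.ι _).Faithful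
  have hlift : Groth.L24.InertiaFin.LiftsAut j := fun u β hβ => by
    obtain ⟨e, he⟩ := hβ.eq
    exact ⟨ObjectProperty.homMk β, OverId.of_eq e he, rfl⟩
  have hcmp := Groth.L24.InertiaFin.isEquivOver_inertiaCmp hg j hlift
  have hI1 : RepByAlgSp1 (FibCat.inertiaToBase (FibCat.toSelf 𝒳)) := repWith_rep1 hrep
  have hrep' : RepByAlgSpWith FlatLfp (FibCat.inertiaToBase (FibCat.toSelf (fullSub 𝒳 Q))) := by
    refine (repWith_precomp hcmp (FibCat.fpFst j (FibCat.inertiaToBase (FibCat.toSelf 𝒳)))).2 fun U z => ?_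
    have hz : Wit FlatLfp (BasedFunctor.comp z j) (FibCat.inertiaToBase (FibCat.toSelf 𝒳)) :=
      wit_of_range hg hI1 xV hxV hV _ fun t => by
        rw [hrange]
        exact hsub ((Groth.L24.Sub.within_chart_iff hg _ (BasedFunctor.comp z j) (idObj U)).1 (z.obj (idObj U)).property t)
    exact (Wit.transfer (fpPaste z j (FibCat.inertiaToBase (FibCat.toSelf 𝒳)))
      (fpPaste_isEquivOver z j _) (Iso.refl _)).2 hz
  have hIQ := Groth.L09.Gerbe.isAlgStack_inertia hQ isAlgStack_selfOver (FibCat.toSelf (fullSub 𝒳 Q))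
  exact (Groth.Agent.S16861.result S _ hQ).2
    ⟨Groth.L24.LocQ.locQ_of_repWith_locP Groth.L23.etLocal_flat hIQ hQ (repWith_mono (fun _ _ _ _ h => h.1) hrep'),
      Groth.L24.LocQ.locQ_of_repWith_locP Groth.L23.etLocal_lfp hIQ hQ (repWith_mono (fun _ _ _ _ h => h.2) hrep')⟩

end Groth.L09.GerbStrat
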