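import Groth.Agent.L20.GenericFlatScheme
import Groth.Agent.L23.QsTop
import Groth.Agent.L24.LocQ.Descent
import Groth.Agent.L24.St.DiagSpace

/-!
Generic flatness for a space over a reduced scheme.
-/

set_option autoImplicit false
set_option backward.isDefEq.respectTransparency false
set_option backward.isDefEq.respectTransparency.types false

universe u

open CategoryTheory CategoryTheory.Limits AlgebraicGeometry Opposite AlgSp TopologicalSpace

noncomputable section

namespace Groth.L09.GerbStrat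

variable {S : Scheme.{u}}

/-- An open subscheme over the base. -/
abbrev opMk (V : Over S) (O : V.left.Opens) : Over S := Over.mk (O.ι ≫ V.hom)

/-- Its inclusion. -/
abbrev opHom (V : Over S) (O : V.left.Opens) : opMk V O ⟶ V := Over.homMk O.ι rfl

theorem prop_snd_opHom_iff (P : MorphismProperty Scheme.{u}) [P.IsStableUnderBaseChange] {W V : Over S}
    (h : W ⟶ V) (O : V.left.Opens) :
    P (pullback.snd h (opHom V O)).left ↔ P (h.left ∣_ O) := by
  have sq := (IsPullback.of_hasPullback h (opHom V O)).map (Over.forget S)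
  have sq' := (isPullback_morphismRestrict h.left O).flip
  rw [show (pullback.snd h (opHom V O)).left = (sq.isoIsPullback _ _ sq').hom ≫ (h.left ∣_ O) from
    (sq.isoIsPullback_hom_snd _ _ sq').symm]
  exact P.cancel_left_of_respectsIso _ _

/-- A chart pulls back to a chart of every base change. -/
theorem exists_chart_baseChange {F P : AlgSp.Sp S} {V Z W : Over S} {q : F ⟶ (yon S).obj V}
    {a : (yon S).obj W ⟶ F} {h : W ⟶ V} (w : a ≫ q = (yon S).map h) (he : RepWith @Etale a)
    (hs : RepWith @Surjective a) (j : Z ⟶ V) {fst : P ⟶ F} {snd : P ⟶ (yon S).obj Z}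
    (sq : IsPullback fst snd q ((yon S).map j)) :
    ∃ b : (yon S).obj (pullback h j) ⟶ P, RepWith @Etale b ∧ RepWith @Surjective b ∧
      b ≫ snd = (yon S).map (pullback.snd h j) := by
  have sqW := (IsPullback.of_hasPullback h j).map (yon S)
  let b := sq.lift ((yon S).map (pullback.fst h j) ≫ a) ((yon S).map (pullback.snd h j))
    (by rw [Category.assoc, w, sqW.w])
  have sq₁ : IsPullback ((yon S).map (pullback.fst h j)) b a fst :=
    IsPullback.of_bot (by rw [show b ≫ snd = _ from sq.lift_snd _ _ _, w]; exact sqW)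
      (sq.lift_fst _ _ _).symm sq
  exact ⟨b, Groth.L23.repWith_of_isPullback sq₁ he, Groth.L23.repWith_of_isPullback sq₁ hs, sq.lift_snd _ _ _⟩

theorem locP_snd_iff {R : MorphismProperty Scheme.{u}} (hR : Groth.L23.EtLocal R) {F P : AlgSp.Sp S}
    {V Z W : Over S} {q : F ⟶ (yon S).obj V} {a : (yon S).obj W ⟶ F} {h : W ⟶ V} (w : a ≫ q = (yon S).map h)
    (he : RepWith @Etale a) (hs : RepWith @Surjective a) (j : Z ⟶ V) {fst : P ⟶ F} {snd : P ⟶ (yon S).obj Z}
    (sq : IsPullback fst snd q ((yon S).map j)) : LocP R snd ↔ R (pullback.snd h j).left := by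
  obtain ⟨b, hbe, hbs, hb⟩ := exists_chart_baseChange w he hs j sq
  exact ⟨fun H => H b (𝟙 _) _ hbe (repWith_id _ Z) (by rw [Category.comp_id]; exact hb),
    fun H => Groth.L23.locP_of_chart hR hbe hbs (repWith_id _ Z) (by rw [Category.comp_id]; exact hb) H⟩

theorem prop_morphismRestrict_sSup (P : MorphismProperty Scheme.{u}) [IsZariskiLocalAtTarget P]
    {X Y : Scheme.{u}} (f : X ⟶ Y) (C : Set Y.Opens) (hC : ∀ O ∈ C, P (f ∣_ O)) : P (f ∣_ sSup C) := by
  refine IsZariskiLocalAtTarget.of_iSup_eq_top (fun O : C => (sSup C).ι ⁻¹ᵁ O.1) ?_ fun O => ?_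
  · refine Opens.ext (Set.eq_univ_of_forall fun x => ?_)
    obtain ⟨O, hO, hx⟩ := Opens.mem_sSup.1 x.2
    exact Opens.mem_iSup.2 ⟨⟨O, hO⟩, hx⟩
  · rw [P.arrow_mk_iso_iff (morphismRestrictRestrict f (sSup C) _)]
    have e : (sSup C).ι ''ᵁ (sSup C).ι ⁻¹ᵁ O.1 = O.1 := by
      rw [Scheme.Hom.image_preimage_eq_opensRange_inf, Scheme.Opens.opensRange_ι]
      exact inf_eq_right.2 (le_sSup O.2)
    rw [P.arrow_mk_iso_iff (morphismRestrictEq f e)]
    exact hC _ O.2

/-- Flat and locally of finite presentation. -/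
abbrev FlatLfp : MorphismProperty (AlgSp.Sp S) := LocP @Flat ⊓ LocP @LocallyOfFinitePresentation

/-- A space locally of finite type and quasi-compact over a reduced scheme is flat and of finite presentation over
a dense open. -/
theorem exists_dense_flatLfp {V : Over S} [IsReduced V.left] {F : AlgSp.Space S} (q : F.obj ⟶ (yon S).obj V)
    (hl : LocP @LocallyOfFiniteType q) (hc : AlgSp.IsQuasiCompactMor q) :
    ∃ O : V.left.Opens, Dense (O : Set V.left) ∧
      FlatLfp (pullback.snd q ((yon S).map (opHom V O))) := by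
  obtain ⟨W, a, he, hs⟩ := F.property.atlas
  obtain ⟨h, hh⟩ := (yon S).map_surjective (a ≫ q)
  let C : Set V.left.Opens := {O | Flat (h.left ∣_ O) ∧ LocallyOfFinitePresentation (h.left ∣_ O)}
  refine ⟨sSup C, ?_, ?_⟩
  · rw [dense_iff_inter_open]
    intro N hN hne
    obtain ⟨v, hv⟩ := hne
    obtain ⟨_, ⟨V₀, hV₀, rfl⟩, hvV₀, hV₀N⟩ := V.left.isBasis_affineOpens.exists_subset_of_mem_open hv hN
    let Vs := opMk V V₀
    let j : Vs ⟶ V := opHom V V₀
    have : IsAffine Vs.left := hV₀
    have : IsReduced Vs.left := inferInstanceAs (IsReduced (Scheme.Opens.toScheme V₀))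
    have sq : IsPullback (pullback.fst q ((yon S).map j)) (pullback.snd q ((yon S).map j)) q ((yon S).map j) :=
      IsPullback.of_hasPullback _ _
    have hVs := AlgSp.IsAlgSpace.yon_obj Vs
    have hF₀ : AlgSp.IsAlgSpace (pullback q ((yon S).map j)) :=
      Groth.L24.St.isAlgSpace_pullback F.property hVs (AlgSp.IsAlgSpace.yon_obj V) _ _
    obtain ⟨W', a', hW', he', hs'⟩ := Groth.L23.Qs.exists_affine_atlas hF₀
      (hc hVs Groth.L23.isQuasiCompactSp_of_compactSpace ((yon S).map j) _ _ sq)
    obtain ⟨h', hh'⟩ := (yon S).map_surjective (a' ≫ pullback.snd q ((yon S).map j))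
    have : LocallyOfFiniteType h'.left :=
      Groth.L23.locP_of_isPullback Groth.L23.etLocal_lft F.property (AlgSp.IsAlgSpace.yon_obj V) hVs sq hl
        a' (𝟙 _) h' he' (repWith_id _ Vs) (by rw [Category.comp_id]; exact hh'.symm)
    obtain ⟨O', hO'd, hO'f, hO'p⟩ := Groth.L20.GFR.exists_dense_flat_lfp h'.left
    obtain ⟨v', -, hv'⟩ := dense_iff_inter_open.1 hO'd Set.univ isOpen_univ ⟨⟨v, hvV₀⟩, trivial⟩
    let O : V.left.Opens := (Scheme.Opens.ι V₀) ''ᵁ O'
    have key : ∀ {R : MorphismProperty Scheme.{u}} [R.IsStableUnderBaseChange],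
        Groth.L23.EtLocal R → R (h'.left ∣_ O') → R (h.left ∣_ O) := by
      intro R _ hR hO'
      let Z := opMk Vs O'
      let k : Z ⟶ Vs := opHom Vs O'
      have sqk : IsPullback (pullback.fst (pullback.snd q ((yon S).map j)) ((yon S).map k))
          (pullback.snd _ _) (pullback.snd q ((yon S).map j)) ((yon S).map k) := IsPullback.of_hasPullback _ _
      have sq2 := sqk.paste_horiz sq
      rw [← Functor.map_comp] at sq2
      have h1 : R (pullback.snd h (k ≫ j)).left :=
        (locP_snd_iff hR hh.symm he hs (k ≫ j) sq2).1 ((locP_snd_iff hR hh'.symm he' hs' k sqk).2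
          ((prop_snd_opHom_iff R h' O').2 hO'))
      let Z₂ := opMk V O
      let m : Z₂ ≅ Z := Over.isoMk (((Scheme.Opens.ι V₀).isoImage O').symm) (by
        show ((Scheme.Opens.ι V₀).isoImage O').inv ≫ O'.ι ≫ (Scheme.Opens.ι V₀) ≫ V.hom = O.ι ≫ V.hom
        rw [Scheme.Hom.isoImage_inv_ι_assoc])
      have hm : m.hom ≫ k ≫ j = opHom V O := Over.OverMorphism.ext (by
        show ((Scheme.Opens.ι V₀).isoImage O').inv ≫ O'.ι ≫ (Scheme.Opens.ι V₀) = O.ι
        rw [Scheme.Hom.isoImage_inv_ι])
      refine (prop_snd_opHom_iff R h O).1 ?_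
      have sqm : IsPullback (pullback.fst h (opHom V O)) (pullback.snd h (opHom V O) ≫ m.hom) h (k ≫ j) :=
        IsPullback.of_iso (IsPullback.of_hasPullback h (opHom V O)) (Iso.refl _) (Iso.refl _) m (Iso.refl _)
          (by simp) (by simp) (by simp) (by simp [hm])
      have e : pullback.snd h (opHom V O) ≫ m.hom =
          sqm.isoPullback.hom ≫ pullback.snd h (k ≫ j) := sqm.isoPullback_hom_snd.symm
      have e' : (pullback.snd h (opHom V O)).left ≫ m.hom.left =
          sqm.isoPullback.hom.left ≫ (pullback.snd h (k ≫ j)).left := congrArg (fun t => Over.Hom.left t) e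
      have h2 : R ((pullback.snd h (opHom V O)).left ≫ m.hom.left) := by
        rw [e']; exact (R.cancel_left_of_respectsIso _ _).2 h1
      exact (R.cancel_right_of_respectsIso _ _).1 h2
    exact ⟨(Scheme.Opens.ι V₀) v', hV₀N v'.2,
      Opens.mem_sSup.2 ⟨O, ⟨key Groth.L23.etLocal_flat hO'f, key Groth.L23.etLocal_lfp hO'p⟩, v', hv', rfl⟩⟩
  · have hC : ∀ (R : MorphismProperty Scheme.{u}) [R.IsStableUnderBaseChange] [IsZariskiLocalAtTarget R],
        Groth.L23.EtLocal R → (∀ O ∈ C, R (h.left ∣_ O)) →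
        LocP R (pullback.snd q ((yon S).map (opHom V (sSup C)))) := fun R _ _ hR hCR =>
      (locP_snd_iff hR hh.symm he hs _ (IsPullback.of_hasPullback _ _)).2
        ((prop_snd_opHom_iff R h _).2 (prop_morphismRestrict_sSup R h.left C hCR))
    exact ⟨hC @Flat Groth.L23.etLocal_flat fun O hO => hO.1,
      hC @LocallyOfFinitePresentation Groth.L23.etLocal_lfp fun O hO => hO.2⟩

end Groth.L09.GerbStrat
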