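import Mathlib.Topology.Basic
import Mathlib.Topology.Constructions
import Mathlib.SetTheory.Cardinal.Aleph

/-!
Exhausting a space by a well-ordered family of relatively open pieces of closed subsets.
-/

set_option autoImplicit false

universe w v

open Set Cardinal

noncomputable section

namespace Groth.L09.GerbStrat

variable {α : Type w} [TopologicalSpace α] {β : Type v}

/-- Transfinite exhaustion. -/
theorem exists_wellOrdered_pieces (Good : Set α → β → Prop) (img : β → Set α)
    (h : ∀ T : Set α, IsClosed T → T.Nonempty →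
      ∃ b, Good T b ∧ img b ⊆ T ∧ (img b).Nonempty ∧ IsOpen ((Subtype.val : T → α) ⁻¹' img b)) :
    ∃ (I : Type w) (_ : LinearOrder I) (_ : WellFoundedLT I) (Q : I → β) (T : I → Set α),
      (∀ i, T i = {p | ∀ i', i' < i → p ∉ img (Q i')}) ∧ (∀ i, Good (T i) (Q i)) ∧
      (∀ p, ∃ i, p ∈ img (Q i)) ∧ (∀ i, IsClosed (T i)) ∧
      (∀ i, img (Q i) ⊆ T i ∧ IsOpen ((Subtype.val : T i → α) ⁻¹' img (Q i))) := by
  classical
  let K := (Order.succ #α).ord.ToType
  let g : Set α → Set α := fun T => if hT : IsClosed T ∧ T.Nonempty then img (h T hT.1 hT.2).choose else ∅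
  have hg : ∀ T, IsClosed T → g T ⊆ T ∧ IsClosed (T \ g T) := by
    intro T hT
    by_cases hne : T.Nonempty
    · obtain ⟨-, hsub, -, hop⟩ := (h T hT hne).choose_spec
      have e : g T = img (h T hT hne).choose := dif_pos (⟨hT, hne⟩ : IsClosed T ∧ T.Nonempty)
      rw [e]
      refine ⟨hsub, ?_⟩
      obtain ⟨O, hO, hOe⟩ := isOpen_induced_iff.1 hop
      have : T \ img (h T hT hne).choose = T \ O := by
        ext p
        refine and_congr_right fun hp => not_congr ?_
        exact (Set.ext_iff.1 hOe ⟨p, hp⟩).symm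
      rw [this]
      exact hT.sdiff hO
    · have e : g T = ∅ := dif_neg fun hh => hne hh.2
      rw [e, Set.sdiff_empty]
      exact ⟨Set.empty_subset _, hT⟩
  let F : K → Set α := IsWellFounded.fix (· < ·) fun k rec => {p | ∀ k' (hk : k' < k), p ∉ g (rec k' hk)}
  have hF : ∀ k, F k = {p | ∀ k', k' < k → p ∉ g (F k')} := fun k => IsWellFounded.fix_eq _ _ k
  have hmono : ∀ {k k'}, k' ≤ k → F k ⊆ F k' := fun {k k'} hk p hp => by
    rw [hF] at hp ⊢
    exact fun i hi => hp i (hi.trans_le hk)
  have hclosed : ∀ k, IsClosed (F k) := by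
    intro k
    induction k using WellFoundedLT.induction with
    | _ k ih =>
      have : F k = ⋂ (k') (_ : k' < k), F k' \ g (F k') := by
        ext p
        simp only [Set.mem_iInter]
        constructor
        · intro hp k' hk'
          refine ⟨hmono hk'.le hp, ?_⟩
          rw [hF] at hp
          exact hp k' hk'
        · intro hp
          rw [hF]
          exact fun k' hk' => (hp k' hk').2
      rw [this]
      exact isClosed_iInter fun k' => isClosed_iInter fun hk' => (hg _ (ih k' hk')).2
  have hcover : ∀ p, ∃ k, p ∈ g (F k) := by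
    by_contra hp
    push Not at hp
    obtain ⟨p, hp⟩ := hp
    have hne : ∀ k, (F k).Nonempty := fun k => ⟨p, by rw [hF]; exact fun k' _ => hp k'⟩
    have hpt : ∀ k, (g (F k)).Nonempty := fun k => by
      have e : g (F k) = _ := dif_pos (⟨hclosed k, hne k⟩ : IsClosed (F k) ∧ (F k).Nonempty)
      rw [e]
      exact (h _ (hclosed k) (hne k)).choose_spec.2.2.1
    choose q hq using hpt
    have hinj : Function.Injective q := by
      intro k k' e
      by_contra hkk
      rcases lt_or_gt_of_ne hkk with hlt | hlt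
      · have h1 := (hg _ (hclosed k')).1 (hq k')
        rw [hF] at h1
        exact h1 k hlt (e ▸ hq k)
      · have h1 := (hg _ (hclosed k)).1 (hq k)
        rw [hF] at h1
        exact h1 k' hlt (e ▸ hq k')
    have := Cardinal.mk_le_of_injective hinj
    rw [Cardinal.mk_toType, Cardinal.card_ord] at this
    exact absurd this (not_le.2 (Order.lt_succ _))
  refine ⟨{k : K // (F k).Nonempty}, inferInstance, inferInstance,
    fun i => (h (F i.1) (hclosed i.1) i.2).choose, fun i => F i.1, fun i => ?_, fun i => ?_, fun p => ?_,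
    fun i => hclosed i.1, fun i => ?_⟩
  · have e : ∀ i' : {k : K // (F k).Nonempty}, g (F i'.1) = img (h (F i'.1) (hclosed i'.1) i'.2).choose :=
      fun i' => dif_pos (⟨hclosed i'.1, i'.2⟩ : IsClosed (F i'.1) ∧ (F i'.1).Nonempty)
    refine Set.ext fun p => ⟨fun hp i' hi' => ?_, fun hp => ?_⟩
    · change p ∈ F i.1 at hp
      rw [hF] at hp
      show p ∉ img (h (F i'.1) (hclosed i'.1) i'.2).choose
      rw [← e]
      exact hp i'.1 hi'
    · show p ∈ F i.1
      rw [hF]
      intro k' hk' hpk
      by_cases hne : (F k').Nonempty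
      · exact hp ⟨k', hne⟩ hk' (e ⟨k', hne⟩ ▸ hpk)
      · exact hne ⟨p, (hg _ (hclosed k')).1 hpk⟩
  · exact (h (F i.1) (hclosed i.1) i.2).choose_spec.1
  · obtain ⟨k, hk⟩ := hcover p
    have hne : (F k).Nonempty := ⟨p, (hg _ (hclosed k)).1 hk⟩
    exact ⟨⟨k, hne⟩, by
      have e : g (F k) = img (h (F k) (hclosed k) hne).choose :=
        dif_pos (⟨hclosed k, hne⟩ : IsClosed (F k) ∧ (F k).Nonempty)
      exact e ▸ hk⟩
  · exact ⟨(h (F i.1) (hclosed i.1) i.2).choose_spec.2.1, (h (F i.1) (hclosed i.1) i.2).choose_spec.2.2.2⟩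

end Groth.L09.GerbStrat
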