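import Groth.Agent.L09.GerbStrat.DenseGerbe
import Groth.Agent.L09.Stack.ReducedSub
import Groth.Agent.L24.Sub.OpenSub2
import Groth.Agent.L24.St.Compact
import Groth.Agent.L24.St.PointsUniv
import Groth.Agent.L23.FppfImmersion
import Groth.Agent.L24.St.AtlasCover
import Groth.Agent.L09.Gerbe.Space
import Groth.Agent.L09.GerbBasic
import Groth.Agent.S12878
import Groth.Agent.L24.St.MonoLocal

/-!
Strata that are gerbes inside a closed set of points of a stack with quasi-compact inertia.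
-/

set_option autoImplicit false
set_option backward.isDefEq.respectTransparency false
set_option backward.isDefEq.respectTransparency.types false

universe u

open CategoryTheory CategoryTheory.Limits AlgebraicGeometry Opposite AlgSt

noncomputable section

namespace Groth.L09.GerbStrat

open Groth.L24.St Groth.L09.Stack

variable {S : Scheme.{u}} {𝒳 𝒴 : AlgSt.Cat S}

theorem isImm_of_isClosedImm {f : 𝒳 ⥤ᵇ 𝒴} (h : IsClosedImm f) : IsImm f :=
  repWith_mono (fun _ _ _ _ h => Groth.L23.repWith_mono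
    (fun φ (hφ : IsClosedImmersion φ) => have := hφ; inferInstanceAs (IsImmersion φ)) h) h

theorem isImm_of_isOpenImm {f : 𝒳 ⥤ᵇ 𝒴} (h : IsOpenImm f) : IsImm f :=
  repWith_mono (fun _ _ _ _ h => Groth.L23.repWith_mono
    (fun φ (hφ : IsOpenImmersion φ) => have := hφ; inferInstanceAs (IsImmersion φ)) h) h

theorem isImm_comp {𝒵 : AlgSt.Cat S} (h𝒳 : FibCat.IsFibGrpd 𝒳.p) (h𝒴 : FibCat.IsFibGrpd 𝒴.p) {f : 𝒳 ⥤ᵇ 𝒴}
    {g : 𝒴 ⥤ᵇ 𝒵} (hf : IsImm f) (hg : IsImm g) : IsImm (BasedFunctor.comp f g) :=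
  repWith_comp hasAtlasCovers_fppf (pBase_repWith _) (fun _ _ _ _ _ _ _ _ h h' => Groth.L23.repWith_comp h h')
    Groth.L23.isLocalOnBase_fppf_immersion h𝒳 h𝒴 hf hg

theorem isMono_comp {𝒲 : AlgSt.Cat S} (_ : IsAlgStack Scheme.fppfPrecoverage 𝒴)
    (h𝒲 : IsAlgStack Scheme.fppfPrecoverage 𝒲) (h𝒳 : IsAlgStack Scheme.fppfPrecoverage 𝒳) {f : 𝒲 ⥤ᵇ 𝒳}
    {g : 𝒳 ⥤ᵇ 𝒴} (hf : IsMono f) (hg : IsMono g) : IsMono (BasedFunctor.comp f g) :=
  repWith_comp hasAtlasCovers_fppf pBase_mono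
    (fun _ _ _ _ _ _ a b (ha : Mono a) (hb : Mono b) => (mono_comp a b : Mono (a ≫ b)))
    isLocalOnBase_mono_fppf h𝒲.isStack.1 h𝒳.isStack.1 hf hg

/-- Being a gerbe over some space is invariant under equivalence. -/
theorem isAlgGerbe_of_equiv (h𝒳 : IsAlgStack Scheme.fppfPrecoverage 𝒳) {e : 𝒳 ⥤ᵇ 𝒴} (he : FibCat.IsEquivOver e)
    (h : Gerb.IsAlgGerbe Scheme.fppfPrecoverage 𝒳) : Gerb.IsAlgGerbe Scheme.fppfPrecoverage 𝒴 := by
  have h𝒴 := isAlgStack_of_equiv he h𝒳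
  obtain ⟨c, hc, -, -⟩ := exists_inverse he
  obtain ⟨X, π, hπ⟩ := h
  exact ⟨X, BasedFunctor.comp c π, Groth.L09.Gerb.comp h𝒴.isStack.1 h𝒳.isStack.1
    (Groth.L09.Gerb.of_isEquivOver h𝒴.isStack.1 h𝒳.isStack.1 hc) hπ⟩

/-- Quasi-compact inertia restricts to a substack. -/
theorem isQuasiCompactMor_inertia_sub (h𝒳 : IsAlgStack Scheme.fppfPrecoverage 𝒳) {Q : 𝒳.obj → Prop}
    (hQ : IsAlgStack Scheme.fppfPrecoverage (fullSub 𝒳 Q))
    (hI : IsQuasiCompactMor Scheme.fppfPrecoverage (FibCat.inertiaToBase (FibCat.toSelf 𝒳))) :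
    IsQuasiCompactMor Scheme.fppfPrecoverage (FibCat.inertiaToBase (FibCat.toSelf (fullSub 𝒳 Q))) := by
  let j := subIncl 𝒳 Q
  have : j.toFunctor.Faithful := inferInstanceAs (ObjectProperty.ι Q).Faithful
  have hlift : Groth.L24.InertiaFin.LiftsAut j := fun u β hβ => by
    obtain ⟨e, he⟩ := hβ.eq
    exact ⟨ObjectProperty.homMk β, OverId.of_eq e he, rfl⟩
  have hcmp := Groth.L24.InertiaFin.isEquivOver_inertiaCmp h𝒳.isStack.1 j hlift
  have hq : RepByAlgSpWith AlgSp.IsQuasiCompactMor (FibCat.inertiaToBase (FibCat.toSelf 𝒳)) :=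
    repWith_mono (fun _ _ _ _ h => h.2) (repWith_inertia_lft_qc h𝒳 hI)
  have h' : RepByAlgSpWith AlgSp.IsQuasiCompactMor (FibCat.inertiaToBase (FibCat.toSelf (fullSub 𝒳 Q))) :=
    (repWith_precomp hcmp (FibCat.fpFst j (FibCat.inertiaToBase (FibCat.toSelf 𝒳)))).2 (repWith_fpFst j hq)
  exact (repWith_qcMor_iff (Groth.L09.Gerbe.isAlgStack_inertia hQ isAlgStack_selfOver _).isStack.1 hQ.isStack.1
    (inertiaToBase_rep1_alg hQ isAlgStack_selfOver _)).1 h'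

/-- A reduced closed substack, with the trace of its open sets of points. -/
theorem exists_reduced_closedSubstack_trace (h𝒳 : IsAlgStack Scheme.fppfPrecoverage 𝒳) (T : Set (Points 𝒳))
    (hT : IsClosed T) :
    ∃ Q : 𝒳.obj → Prop, IsClosedSubstack 𝒳 Q Scheme.fppfPrecoverage ∧
      Set.range (Points.map (subIncl 𝒳 Q)) = T ∧ SmoothLocally (fun X => IsReduced X) (fullSub 𝒳 Q) ∧
      ∀ T₀, IsOpen T₀ → ∃ T₁, IsOpen T₁ ∧ Points.map (subIncl 𝒳 Q) '' T₀ = T₁ ∩ T := by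
  obtain ⟨V, y, hy, hys⟩ := h𝒳.atlas
  let TV : TopologicalSpace.Closeds V.left := ⟨Points.ofChart y ⁻¹' T, hT.preimage (continuous_ofChart h𝒳 y)⟩
  let I := Scheme.IdealSheafData.vanishingIdeal TV
  let Z : Over S := Over.mk (I.subschemeι ≫ V.hom)
  let j : Z ⟶ V := Over.homMk I.subschemeι rfl
  have : IsClosedImmersion j.left := inferInstanceAs (IsClosedImmersion I.subschemeι)
  have : IsReduced Z.left := Groth.L18.isReduced_vanishingIdeal_subscheme TV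
  have hrange : Set.range j.left = Points.ofChart y ⁻¹' T := by
    show Set.range I.subschemeι = _
    rw [Scheme.IdealSheafData.range_subschemeι, Scheme.IdealSheafData.coe_support_vanishingIdeal]
    rfl
  have hmem : ∀ a, satProp y j (y.obj ((overMap j).obj a)) := fun a =>
    satProp_of_factor h𝒳 hy (fun v v' h hv => by
      rw [hrange] at hv ⊢
      show Points.ofChart y v' ∈ T
      rw [← h]; exact hv) ((overMap j).obj a) a.hom rfl
  have hA := isAlgStack_satProp hmem h𝒳 hy hys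
  refine ⟨satProp y j, ⟨satProp_isClosedUnderIsomorphisms, hA, isClosedImm_satProp hmem h𝒳 hy hys⟩, ?_,
    smoothLocally_satProp hmem h𝒳 hy hys, fun T₀ hT₀ => ?_⟩
  · rw [range_map_satProp hmem h𝒳 hy hys, hrange]
    exact Set.image_preimage_eq T (surjective_ofChart_of_repWith h𝒳.isStack.1 hys)
  let σ := satLift hmem
  obtain ⟨U, hU, hUj⟩ := j.left.isEmbedding.isInducing.isOpen_iff.1 (hT₀.preimage (continuous_ofChart hA σ))
  have key : ∀ z, Points.map (subIncl 𝒳 (satProp y j)) (Points.ofChart σ z) = Points.ofChart y (j.left z) :=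
    fun z => (congrFun (map_comp_ofChart σ (subIncl 𝒳 (satProp y j))).symm z).trans (ofChart_overMap_comp j y z)
  refine ⟨Points.ofChart y '' U, isOpenMap_ofChart isOpenMap_of_smooth h𝒳.isStack.1 hy U hU, ?_⟩
  ext p
  constructor
  · rintro ⟨x, hx, rfl⟩
    obtain ⟨z, rfl⟩ := surjective_ofChart_of_repWith hA.isStack.1 (repWith_satLift hmem hys) x
    have hz : z ∈ ⇑j.left ⁻¹' U := hUj ▸ hx
    rw [key]
    exact ⟨⟨_, hz, rfl⟩, hrange.subset ⟨z, rfl⟩⟩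
  · rintro ⟨⟨v, hv, rfl⟩, hp⟩
    obtain ⟨z, rfl⟩ := hrange.symm.subset hp
    have hz : z ∈ ⇑j.left ⁻¹' U := hv
    exact ⟨_, (hUj ▸ hz : z ∈ Points.ofChart σ ⁻¹' T₀), key z⟩

/-- The composite of substacks. -/
theorem exists_sub_sub (h𝒳 : IsAlgStack Scheme.fppfPrecoverage 𝒳) {Q₀ : 𝒳.obj → Prop}
    (hQ₀ : IsClosedSubstack 𝒳 Q₀ Scheme.fppfPrecoverage) {Q : (fullSub 𝒳 Q₀).obj → Prop}
    (hQ : IsOpenSubstack (fullSub 𝒳 Q₀) Q Scheme.fppfPrecoverage) :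
    ∃ Q' : 𝒳.obj → Prop, IsLocClosedSubstack 𝒳 Q' Scheme.fppfPrecoverage ∧
      ∃ e : fullSub (fullSub 𝒳 Q₀) Q ⥤ᵇ fullSub 𝒳 Q', FibCat.IsEquivOver e ∧
        Set.range (Points.map (subIncl 𝒳 Q')) =
          Points.map (subIncl 𝒳 Q₀) '' Set.range (Points.map (subIncl (fullSub 𝒳 Q₀) Q)) := by
  let i := BasedFunctor.comp (subIncl (fullSub 𝒳 Q₀) Q) (subIncl 𝒳 Q₀)
  obtain ⟨Q', ⟨hQ', ⟨e, he, ⟨ie⟩⟩, -, -⟩, -⟩ := Groth.Agent.S12878.result hQ.2.1 h𝒳 i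
    (isImm_comp hQ.2.1.isStack.1 hQ₀.2.1.isStack.1 (isImm_of_isOpenImm hQ.2.2) (isImm_of_isClosedImm hQ₀.2.2))
  refine ⟨Q', hQ', e, he, ?_⟩
  have h : Points.map (subIncl 𝒳 Q') ∘ Points.map e =
      Points.map (subIncl 𝒳 Q₀) ∘ Points.map (subIncl (fullSub 𝒳 Q₀) Q) := by
    funext p
    rw [Function.comp_apply, Function.comp_apply, ← map_comp_apply, ← map_comp_apply, map_congr ie]
  rw [← (bijective_map_of_isEquivOver he).surjective.range_comp, h, Set.range_comp]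

theorem smoothLocally_isReduced_of_equiv {e : 𝒳 ⥤ᵇ 𝒴} (he : FibCat.IsEquivOver e)
    (h𝒴 : IsAlgStack Scheme.fppfPrecoverage 𝒴) (h𝒳 : IsAlgStack Scheme.fppfPrecoverage 𝒳)
    (h : SmoothLocally (fun X => IsReduced X) 𝒳) : SmoothLocally (fun X => IsReduced X) 𝒴 := by
  obtain ⟨V, y, hy, hys⟩ := h𝒳.atlas
  exact smoothLocally_of_chart h𝒴.isStack.1 smoothLocalProp_isReduced ((repWith_postcomp he y).2 hy)
    (surjective_ofChart_of_repWith h𝒴.isStack.1 ((repWith_postcomp he y).2 hys)) (h V y hy)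

theorem smoothLocally_isReduced_open (h𝒳 : IsAlgStack Scheme.fppfPrecoverage 𝒳) {Q : 𝒳.obj → Prop}
    (hQ : IsOpenSubstack 𝒳 Q Scheme.fppfPrecoverage) (h : SmoothLocally (fun X => IsReduced X) 𝒳) :
    SmoothLocally (fun X => IsReduced X) (fullSub 𝒳 Q) := fun U x hx =>
  h U (BasedFunctor.comp x (subIncl 𝒳 Q))
    (repWith_comp hasAtlasCovers_atlasCov (pBase_locP Groth.L23.etLocal_smooth)
      (pComp_locP Groth.L23.etLocal_smooth) (isLocalOnBase_locP Groth.L23.etLocal_smooth) (overCat_isFibGrpd _)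
      hQ.2.1.isStack.1 hx (repWith_mono (fun _ _ _ _ h => Groth.L23.locP_of_repWith Groth.L23.etLocal_smooth
        (Groth.L23.repWith_mono (fun φ (hφ : IsOpenImmersion φ) => have := hφ; inferInstanceAs (Smooth φ)) h)) hQ.2.2))

theorem isQuasiCompact_within (h𝒳 : IsAlgStack Scheme.fppfPrecoverage 𝒳) {T : Set (Points 𝒳)} (hT : IsOpen T)
    (hc : IsCompact T) : IsQuasiCompact (fullSub 𝒳 (Groth.L24.Sub.Within T)) := by
  have hQ := Groth.L24.Sub.isOpenSubstack_within h𝒳 hT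
  let j := subIncl 𝒳 (Groth.L24.Sub.Within T)
  have : j.toFunctor.Full := inferInstanceAs (ObjectProperty.ι _).Full
  have hopen : IsOpenMap (Points.map j) := Groth.L24.Sub.isOpenMor_of_isOpenImm hQ.2.1 h𝒳 hQ.2.2
  have hemb : Topology.IsOpenEmbedding (Points.map j) :=
    .of_continuous_injective_isOpenMap (continuous_map h𝒳 j)
      (injective_map_of_fullFaithful hQ.2.1.isStack.1 h𝒳.isStack.1 j) hopen
  have : CompactSpace (Points (fullSub 𝒳 (Groth.L24.Sub.Within T))) := ⟨by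
    rw [hemb.isEmbedding.isCompact_iff, Set.image_univ, Groth.L24.Sub.range_within h𝒳.isStack.1]
    exact hc⟩
  exact isQuasiCompact_of_compactSpace hQ.2.1

/-- A gerbe stratum dense in a closed set of points, and a quasi-compact one. -/
theorem exists_strata (h𝒳 : IsAlgStack Scheme.fppfPrecoverage 𝒳)
    (hI : IsQuasiCompactMor Scheme.fppfPrecoverage (FibCat.inertiaToBase (FibCat.toSelf 𝒳)))
    {T : Set (Points 𝒳)} (hT : IsClosed T) :
    ∃ Q : 𝒳.obj → Prop, IsLocClosedSubstack 𝒳 Q Scheme.fppfPrecoverage ∧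
      SmoothLocally (fun X => IsReduced X) (fullSub 𝒳 Q) ∧
      Gerb.IsAlgGerbe Scheme.fppfPrecoverage (fullSub 𝒳 Q) ∧
      Set.range (Points.map (subIncl 𝒳 Q)) ⊆ T ∧
      IsOpen ((Subtype.val : T → Points 𝒳) ⁻¹' Set.range (Points.map (subIncl 𝒳 Q))) ∧
      Dense ((Subtype.val : T → Points 𝒳) ⁻¹' Set.range (Points.map (subIncl 𝒳 Q))) ∧
      (T.Nonempty → ∃ Q' : 𝒳.obj → Prop, IsLocClosedSubstack 𝒳 Q' Scheme.fppfPrecoverage ∧
        SmoothLocally (fun X => IsReduced X) (fullSub 𝒳 Q') ∧ IsQuasiCompact (fullSub 𝒳 Q') ∧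
        Gerb.IsAlgGerbe Scheme.fppfPrecoverage (fullSub 𝒳 Q') ∧
        Set.range (Points.map (subIncl 𝒳 Q')) ⊆ T ∧ (Set.range (Points.map (subIncl 𝒳 Q'))).Nonempty ∧
        IsOpen ((Subtype.val : T → Points 𝒳) ⁻¹' Set.range (Points.map (subIncl 𝒳 Q')))) := by
  obtain ⟨Q₀, hQ₀, hr₀, hred₀, htr⟩ := exists_reduced_closedSubstack_trace h𝒳 T hT
  have hZ := hQ₀.2.1
  obtain ⟨T₀, hT₀o, hT₀d, hG⟩ := exists_dense_isAlgGerbe hZ hred₀ (isQuasiCompactMor_inertia_sub h𝒳 hZ hI)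
  have mk : ∀ T' : Set (Points (fullSub 𝒳 Q₀)), IsOpen T' → T' ⊆ T₀ →
      ∃ Q : 𝒳.obj → Prop, IsLocClosedSubstack 𝒳 Q Scheme.fppfPrecoverage ∧
        SmoothLocally (fun X => IsReduced X) (fullSub 𝒳 Q) ∧
        Gerb.IsAlgGerbe Scheme.fppfPrecoverage (fullSub 𝒳 Q) ∧
        Set.range (Points.map (subIncl 𝒳 Q)) = Points.map (subIncl 𝒳 Q₀) '' T' ∧
        (IsCompact T' → IsQuasiCompact (fullSub 𝒳 Q)) := fun T' hT' hsub => by
    have hop := Groth.L24.Sub.isOpenSubstack_within hZ hT'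
    obtain ⟨Q, hQ, e, he, hr⟩ := exists_sub_sub h𝒳 hQ₀ hop
    refine ⟨Q, hQ, smoothLocally_isReduced_of_equiv he hQ.2.1 hop.2.1 (smoothLocally_isReduced_open hZ hop hred₀),
      isAlgGerbe_of_equiv hop.2.1 he (hG T' hT' hsub), ?_, fun hc =>
      (isQuasiCompact_iff_of_isEquivOver he).1 (isQuasiCompact_within hZ hT' hc)⟩
    rw [hr, Groth.L24.Sub.range_within hZ.isStack.1]
  have trace : ∀ T' : Set (Points (fullSub 𝒳 Q₀)), IsOpen T' →
      Points.map (subIncl 𝒳 Q₀) '' T' ⊆ T ∧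
        IsOpen ((Subtype.val : T → Points 𝒳) ⁻¹' (Points.map (subIncl 𝒳 Q₀) '' T')) := fun T' hT' => by
    obtain ⟨T₁, hT₁, e⟩ := htr T' hT'
    refine ⟨e ▸ Set.inter_subset_right, ?_⟩
    rw [e, Set.preimage_inter, Subtype.coe_preimage_self, Set.inter_univ]
    exact hT₁.preimage continuous_subtype_val
  obtain ⟨Q, h1, h2, h3, hr, -⟩ := mk T₀ hT₀o subset_rfl
  refine ⟨Q, h1, h2, h3, hr ▸ (trace T₀ hT₀o).1, hr ▸ (trace T₀ hT₀o).2, ?_, fun hne => ?_⟩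
  · rw [dense_iff_inter_open]
    rintro _ ⟨O, hO, rfl⟩ ⟨⟨p, hp⟩, hpO⟩
    obtain ⟨x, rfl⟩ := hr₀.symm.subset hp
    obtain ⟨x', hx', hx'₀⟩ := dense_iff_inter_open.1 hT₀d _ (hO.preimage (continuous_map h𝒳 (subIncl 𝒳 Q₀)))
      ⟨x, hpO⟩
    refine ⟨⟨_, hr₀.subset ⟨x', rfl⟩⟩, hx', ?_⟩
    exact Set.mem_preimage.2 (hr.symm.subset ⟨x', hx'₀, rfl⟩)
  · obtain ⟨V, y, hy, hys⟩ := hZ.atlas
    have : Nonempty (Points (fullSub 𝒳 Q₀)) := by
      obtain ⟨p, hp⟩ := hne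
      obtain ⟨x, -⟩ := hr₀.symm.subset hp
      exact ⟨x⟩
    obtain ⟨p, hp⟩ := hT₀d.nonempty
    obtain ⟨v, rfl⟩ := surjective_ofChart_of_repWith hZ.isStack.1 hys p
    obtain ⟨_, ⟨O, hO, rfl⟩, hvO, hOT⟩ := V.left.isBasis_affineOpens.exists_subset_of_mem_open
      (show v ∈ Points.ofChart y ⁻¹' T₀ from hp) (hT₀o.preimage (continuous_ofChart hZ y))
    let T' := Points.ofChart y '' (O : Set V.left)
    have hT' : IsOpen T' := isOpenMap_ofChart isOpenMap_of_smooth hZ.isStack.1 hy _ O.2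
    obtain ⟨Q', h1', h2', h3', hr', hc'⟩ := mk T' hT' (Set.image_subset_iff.2 hOT)
    refine ⟨Q', h1', h2', hc' (hO.isCompact.image (continuous_ofChart hZ y)), h3', hr' ▸ (trace T' hT').1, ?_,
      hr' ▸ (trace T' hT').2⟩
    rw [hr']
    exact ⟨_, _, ⟨v, hvO, rfl⟩, rfl⟩

end Groth.L09.GerbStrat
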